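import Groth.Agent.ResProp.EF.Base
import Mathlib.CategoryTheory.ObjectProperty.FiniteProducts
import Mathlib.Algebra.Category.ModuleCat.AB
import Mathlib.Algebra.Homology.ShortComplex.ModuleCat
import Mathlib.CategoryTheory.Functor.ReflectsIso.Balanced
import Mathlib.CategoryTheory.Abelian.GrothendieckAxioms.Basic

/-!
# P1: cartesian presheaves of modules over a groupoid ring are closed under kernels and colimits
-/

set_option autoImplicit false
set_option linter.dupNamespace false
set_option linter.style.haveILetI false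

open CategoryTheory CategoryTheory.Limits Opposite

namespace Groth.Agent.ResProp.EF.K741

open EF56 K784.BC K784.PM K741.RP

universe w v u

variable {A : NFᵒᵖ ⥤ CommRingCat.{u}}

/-! ## points are faithfully flat -/

/-- the swap -/
def sw (a : NF) (i : Fin (a.n + 1)) : a ⟶ a := (Equiv.swap 0 i : Fin (a.n + 1) → Fin (a.n + 1))

theorem sw_sw (a : NF) (i : Fin (a.n + 1)) : sw a i ≫ sw a i = 𝟙 a := by
  funext j
  exact Equiv.swap_swap 0 i |> fun h => congrArg (fun e : Equiv.Perm (Fin (a.n + 1)) => e j) h

theorem sw_pt (a : NF) (i : Fin (a.n + 1)) : sw a i ≫ pt a 0 = pt a i := by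
  funext j
  exact Equiv.swap_apply_left 0 i

theorem pr_pt (a : NF) (i : Fin (a.n + 1)) : pr a ≫ pt a i = pt ⟨a.n + 1⟩ i.castSucc := rfl

theorem bijective_sw (a : NF) (i : Fin (a.n + 1)) : Function.Bijective (rg A (sw a i)) := by
  have h : (rg A (sw a i)).comp (rg A (sw a i)) = RingHom.id _ := by
    rw [← rg_comp, sw_sw, rg_id]
  exact ⟨Function.LeftInverse.injective (g := rg A (sw a i)) fun x => congr($h x),
    Function.RightInverse.surjective (g := rg A (sw a i)) fun x => congr($h x)⟩

theorem ff_pt (h : GR A) (a : NF) (i : Fin (a.n + 1)) : FF A (pt a i) := by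
  have h0 : ∀ n : ℕ, FF A (pt ⟨n⟩ 0) := by
    intro n
    induction n with
    | zero =>
      have e : pt (⟨0⟩ : NF) 0 = 𝟙 (⟨0⟩ : NF) := by
        funext i
        exact (Subsingleton.elim (α := Fin 1) _ _)
      rw [e]
      exact FF.id _
    | succ n ih =>
      have e : pr ⟨n⟩ ≫ pt ⟨n⟩ 0 = pt ⟨n + 1⟩ 0 := rfl
      rw [← e]
      exact (h.ff _).comp ih
  rw [← sw_pt]
  exact FF.comp (RingHom.FaithfullyFlat.of_bijective (bijective_sw a i)) (h0 _)

theorem comp_pt {a b : NF} (φ : a ⟶ b) (i : Fin (b.n + 1)) :
    φ ≫ pt b i = pt a ((show Fin (b.n + 1) → Fin (a.n + 1) from φ) i) := rfl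

/-- a presheaf of modules is cartesian if it is so along the points -/
theorem cart_of_pt (F : PM.{w} A) (h : ∀ (a : NF) (i : Fin (a.n + 1)), IsBC (rg A (pt a i)) (F.map (pt a i))) :
    F.Cart := by
  intro x z φ
  have h1 := h z 0
  have h2 := h x ((show Fin (z.n + 1) → Fin (x.n + 1) from φ) 0)
  rw [← comp_pt φ 0, rg_comp] at h2
  have e : F.map (φ ≫ pt z 0) = (F.map φ).comp (F.map (pt z 0)) := by
    ext m
    exact F.map_comp _ _ m
  rw [e] at h2
  exact h1.of_comp (F.map_smul φ) h2

/-! ## closure under isomorphisms, colimits, kernels -/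

theorem isBC_congr {R S : Type*} [CommRing R] [CommRing S] {φ : R →+* S} {M N M' N' : Type*} [AddCommGroup M] [Module R M]
    [AddCommGroup N] [Module S N] [AddCommGroup M'] [Module R M'] [AddCommGroup N'] [Module S N'] {f : M →+ N}
    {f' : M' →+ N'} (e : M →ₗ[R] M') (he : Function.Bijective e) (e' : N →ₗ[S] N') (he' : Function.Bijective e')
    (c : ∀ m, f' (e m) = e' (f m)) (h : IsBC φ f) : IsBC φ f' := by
  let E := LinearEquiv.ofBijective e he
  let E' := LinearEquiv.ofBijective e' he'
  have h1 : IsBC (RingHom.id R) E.symm.toLinearMap.toAddMonoidHom :=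
    isBC_of_bijective Function.bijective_id (fun a m => E.symm.map_smul a m) E.symm.bijective
  have h2 : IsBC (RingHom.id S) E'.toLinearMap.toAddMonoidHom :=
    isBC_of_bijective Function.bijective_id (fun a m => E'.map_smul a m) E'.bijective
  have h3 := (h1.comp h).comp h2
  have e4 : (E'.toLinearMap.toAddMonoidHom.comp (f.comp E.symm.toLinearMap.toAddMonoidHom)) = f' := by
    ext m'
    change e' (f (E.symm m')) = f' m'
    rw [← c]
    exact congrArg f' (E.apply_symm_apply m')
  rw [e4] at h3
  exact h3

instance : (isCart A).IsClosedUnderIsomorphisms where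
  of_iso {M N} e h := by
    intro x z φ
    refine isBC_congr (f := (toPM M).map φ) (e.hom.app (op z)).hom ?_ (e.hom.app (op x)).hom ?_ ?_ (h φ)
    · exact ConcreteCategory.bijective_of_isIso ((PresheafOfModules.evaluation _ (op z)).map e.hom)
    · exact ConcreteCategory.bijective_of_isIso ((PresheafOfModules.evaluation _ (op x)).map e.hom)
    · intro m
      exact (PresheafOfModules.naturality_apply e.hom φ.op m).symm

section Colim

variable {J : Type*} [Category J]

/-- a colimit of modules over a ring, elementwise: linear maps out of it -/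
theorem cart_of_isColimit {F : J ⥤ PresheafOfModules.{u} (rf A)} (c : Cocone F) (hc : IsColimit c)
    [∀ X, PreservesColimit F (PresheafOfModules.evaluation (rf A) X)] (hF : ∀ j, isCart A (F.obj j)) :
    isCart A c.pt := by
  intro x z φ
  have hz := isColimitOfPreserves (PresheafOfModules.evaluation (rf A) (op z)) hc
  have hx := isColimitOfPreserves (PresheafOfModules.evaluation (rf A) (op x)) hc
  have hBC : ∀ j, IsBC (rg A φ) ((toPM (F.obj j)).map φ) := fun j => hF j φ
  refine IsBC.of_lift ((toPM c.pt).map_smul φ) fun Q _ _ g hg => ?_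
  have hex : ∀ j, ∃! g' : (F.obj j).obj (op x) →ₗ[A.obj (op x)] Q,
      ∀ m, g' ((toPM (F.obj j)).map φ m) = g ((c.ι.app j).app (op z) m) := fun j =>
    (hBC j).existsUnique_lift (g.comp ((c.ι.app j).app (op z)).hom.toAddMonoidHom) (fun a m => by
      change g ((c.ι.app j).app (op z) (a • m)) = rg A φ a • g ((c.ι.app j).app (op z) m)
      rw [← hg]
      exact congrArg g (((c.ι.app j).app (op z)).hom.map_smul a m))
  choose g' hg' hg'u using hex
  letI iQ : Module ((rf A).obj (op x)) Q := inferInstanceAs (Module (A.obj (op x)) Q)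
  let g1 : ∀ j, (F.obj j).obj (op x) →ₗ[(rf A).obj (op x)] Q := g'
  let cQ : Cocone (F ⋙ PresheafOfModules.evaluation (rf A) (op x)) :=
    { pt := ModuleCat.of ((rf A).obj (op x)) Q
      ι :=
        { app := fun j => ModuleCat.ofHom (g1 j)
          naturality := fun i j a => by
            apply ModuleCat.hom_ext
            refine (hBC i).hom_ext (g₁ := (g1 j).comp ((F.map a).app (op x)).hom) (g₂ := g1 i) fun m => ?_
            change g' j ((F.map a).app (op x) ((F.obj i).map φ.op m)) = g' i ((toPM (F.obj i)).map φ m)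
            rw [PresheafOfModules.naturality_apply, hg' i]
            refine (hg' j ((F.map a).app (op z) m)).trans ?_
            refine congrArg g ?_
            have h5 := c.w a
            exact congr(($h5).app (op z) m) } }
  let gx := hx.desc cQ
  let gl : c.pt.obj (op x) →ₗ[(rf A).obj (op x)] Q := gx.hom
  have hgx : ∀ j m, gl ((c.ι.app j).app (op x) m) = g' j m := fun j m => by
    have h := hx.fac cQ j
    exact congr(($h) m)
  refine ⟨gl, ?_, ?_⟩
  · letI iQ' : Module ((rf A).obj (op z)) Q := Module.compHom Q (rg A φ)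
    let s1 : c.pt.obj (op z) →ₗ[(rf A).obj (op z)] Q :=
        { toFun := fun m => gl (c.pt.map φ.op m)
          map_add' := fun a b => (congrArg gl (map_add (c.pt.map φ.op).hom a b)).trans (map_add gl _ _)
          map_smul' := fun r m => (congrArg gl ((toPM c.pt).map_smul φ r m)).trans (gl.map_smul _ _) }
    let s2 : c.pt.obj (op z) →ₗ[(rf A).obj (op z)] Q :=
        { toFun := fun m => g m
          map_add' := fun a b => map_add g a b
          map_smul' := fun r m => hg r m }
    have h12 : ModuleCat.ofHom s1 = ModuleCat.ofHom s2 := hz.hom_ext fun j => by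
      apply ModuleCat.hom_ext
      ext m
      change gl (c.pt.map φ.op ((c.ι.app j).app (op z) m)) = g ((c.ι.app j).app (op z) m)
      rw [← PresheafOfModules.naturality_apply, hgx]
      exact hg' j m
    intro m
    exact congr(($h12) m)
  · intro g'' hg''
    let g2 : c.pt.obj (op x) →ₗ[(rf A).obj (op x)] Q := g''
    have h6 : ModuleCat.ofHom g2 = ModuleCat.ofHom gl := hx.hom_ext fun j => by
      apply ModuleCat.hom_ext
      refine (hBC j).hom_ext (g₁ := g2.comp ((c.ι.app j).app (op x)).hom)
        (g₂ := gl.comp ((c.ι.app j).app (op x)).hom) fun m => ?_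
      change g'' ((c.ι.app j).app (op x) ((F.obj j).map φ.op m)) = gl ((c.ι.app j).app (op x) ((F.obj j).map φ.op m))
      rw [hgx, PresheafOfModules.naturality_apply]
      exact (hg'' _).trans (hg' j m).symm
    exact congr(($h6).hom)

instance {J : Type u} [SmallCategory J] : (isCart A).IsClosedUnderColimitsOfShape J where
  colimitsOfShape_le := by
    rintro M ⟨h⟩
    exact cart_of_isColimit _ h.isColimit h.prop_diag_obj

end Colim

section Ker

theorem exact_of_isLimit {R : Type*} [Ring R] {M N : ModuleCat.{u} R} {f : M ⟶ N} (k : KernelFork f) (hk : IsLimit k) :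
    Function.Injective k.ι.hom ∧ ∀ m, f.hom m = 0 ↔ ∃ l, k.ι.hom l = m := by
  let S := ShortComplex.mk k.ι f k.condition
  have hS : S.Exact := S.exact_of_f_is_kernel (IsLimit.ofIsoLimit hk (Fork.ext (Iso.refl _) (by simp [S])))
  have hm : Mono k.ι := mono_of_isLimit_fork hk
  refine ⟨(ModuleCat.mono_iff_injective _).1 hm, fun m => ⟨fun h => ?_, ?_⟩⟩
  · have h1 : m ∈ LinearMap.ker S.g.hom := h
    rw [← hS.moduleCat_range_eq_ker] at h1
    exact h1
  · rintro ⟨l, rfl⟩
    exact congr(($k.condition) l)

/-- closure under kernels -/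
theorem cart_of_isLimit_kernelFork (hA : GR A) {M N : PresheafOfModules.{u} (rf A)} {f : M ⟶ N} (k : KernelFork f)
    (hk : IsLimit k) (hM : isCart A M) (hN : isCart A N) : isCart A k.pt := by
  refine cart_of_pt _ fun a i => ?_
  have hz := exact_of_isLimit _ (KernelFork.mapIsLimit k hk (PresheafOfModules.evaluation (rf A) (op ⟨0⟩)))
  have hx := exact_of_isLimit _ (KernelFork.mapIsLimit k hk (PresheafOfModules.evaluation (rf A) (op a)))
  exact IsBC.of_exact (φ := rg A (pt a i)) (ff_pt hA a i).fl (k.ι.app (op ⟨0⟩)).hom hz.1 (f.app (op ⟨0⟩)).hom hz.2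
    (k.ι.app (op a)).hom hx.1 (f.app (op a)).hom hx.2 (hM (pt a i)) (hN (pt a i))
    (fun m => (PresheafOfModules.naturality_apply k.ι (pt a i).op m))
    (fun m => (PresheafOfModules.naturality_apply f (pt a i).op m))

end Ker

instance : (isCart A).IsClosedUnderCokernels where
  cokernels_le := by
    rintro _ ⟨f, k, hk, hf⟩
    refine cart_of_isColimit k hk fun j => ?_
    rcases j with _ | _
    · exact hf.1
    · exact hf.2

open ZeroObject in
instance : (isCart A).ContainsZero where
  exists_zero := ⟨0, isZero_zero _, cart_of_isColimit _ (isZero_zero (PresheafOfModules.{u} (rf A))).isInitial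
    (fun j => j.as.elim)⟩

instance : (isCart A).IsClosedUnderFiniteProducts := by
  refine ObjectProperty.IsClosedUnderFiniteProducts.of_isClosedUnderLimitsOfShape.{u} fun J _ ↦ ⟨?_⟩
  rintro M ⟨h⟩
  let f : J → PresheafOfModules.{u} (rf A) := fun j ↦ h.diag.obj ⟨j⟩
  have : HasBiproduct f := HasBiproduct.of_hasProduct f
  have e : M ≅ ∐ f :=
    (IsLimit.conePointsIsoOfNatIso h.isLimit (limit.isLimit (Discrete.functor f))
      (Discrete.natIso fun j ↦ Iso.refl _)) ≪≫
      (biproduct.isoProduct f).symm ≪≫ biproduct.isoCoproduct f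
  refine (isCart A).prop_of_iso e.symm ?_
  exact (isCart A).prop_of_isColimit (colimit.isColimit (Discrete.functor f))
    (fun j ↦ h.prop_diag_obj j)

section Ab

variable [hA : Fact (GR A)]

instance : (isCart A).IsClosedUnderKernels where
  kernels_le := by
    rintro _ ⟨f, k, hk, hf⟩
    exact cart_of_isLimit_kernelFork hA.out k hk hf.1 hf.2

/-- `Comod A` is abelian. -/
noncomputable instance abelian : Abelian (Comod A) := inferInstance

instance preservesFiniteLimits_ι : PreservesFiniteLimits (isCart A).ι := by
  have := (isCart A).preservesKernels_ι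
  exact Functor.preservesFiniteLimits_of_preservesKernels _

instance preservesFiniteColimits_ι : PreservesFiniteColimits (isCart A).ι := by
  have := (isCart A).preservesCokernels_ι
  exact Functor.preservesFiniteColimits_of_preservesCokernels _

instance hasColimits : HasColimitsOfSize.{u, u} (Comod A) where
  has_colimits_of_shape _ _ := inferInstance

instance preservesColimits_ι : PreservesColimitsOfSize.{u, u} (isCart A).ι where
  preservesColimitsOfShape {_} _ := inferInstance

instance preservesFiniteLimits_vst : PreservesFiniteLimits (vst A) :=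
  inferInstanceAs (PreservesFiniteLimits ((isCart A).ι ⋙ PresheafOfModules.evaluation (rf A) (op ⟨0⟩)))

instance preservesFiniteColimits_vst : PreservesFiniteColimits (vst A) :=
  inferInstanceAs (PreservesFiniteColimits ((isCart A).ι ⋙ PresheafOfModules.evaluation (rf A) (op ⟨0⟩)))

instance preservesColimits_vst : PreservesColimitsOfSize.{u, u} (vst A) :=
  inferInstanceAs (PreservesColimitsOfSize.{u, u} ((isCart A).ι ⋙ PresheafOfModules.evaluation (rf A) (op ⟨0⟩)))

instance additive_vst : (vst A).Additive :=
  inferInstanceAs (((isCart A).ι ⋙ PresheafOfModules.evaluation (rf A) (op ⟨0⟩)).Additive)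

omit hA in
theorem hom_ext_vst {M N : Comod A} {f g : M ⟶ N} (h : (vst A).map f = (vst A).map g) : f = g := by
  apply ObjectProperty.hom_ext
  apply PresheafOfModules.hom_ext
  intro X
  apply ModuleCat.hom_ext
  refine (M.property (pt X.unop 0)).hom_ext fun m => ?_
  change f.hom.app X (M.obj.map (pt X.unop 0).op m) = g.hom.app X (M.obj.map (pt X.unop 0).op m)
  rw [PresheafOfModules.naturality_apply, PresheafOfModules.naturality_apply]
  exact congrArg _ congr(($h) m)

instance faithful_vst : (vst A).Faithful where
  map_injective h := hom_ext_vst h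

instance reflectsIsomorphisms_vst : (vst A).ReflectsIsomorphisms := inferInstance

instance reflectsFiniteLimits_vst : ReflectsFiniteLimits (vst A) :=
  reflectsFiniteLimits_of_reflectsIsomorphisms _

instance ab5 : AB5OfSize.{u, u} (Comod A) where
  ofShape J _ _ := HasExactColimitsOfShape.domain_of_functor J (vst A)

end Ab

end Groth.Agent.ResProp.EF.K741
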