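import Groth.Agent.ResProp.EF.K554.Push
import Mathlib.LinearAlgebra.TensorProduct.Tower

/-!
# Tensor products of presheaves of modules, base change, and the projection formula `M ⊗ v_* N ≃ v_* (v^* M ⊗ N)`
-/

set_option autoImplicit false
set_option backward.isDefEq.respectTransparency false
set_option backward.isDefEq.respectTransparency.types false
set_option linter.style.haveILetI false
set_option linter.dupNamespace false
set_option linter.unusedSectionVars false

open CategoryTheory Opposite TensorProduct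

namespace Groth.Agent.ResProp.EF.K741

open K784.BC K784.PM K741.RP K554

universe w₂ w₁ v₁ u₁ u

section Alg

variable {R S : Type*} [CommRing R] [CommRing S] {M M' K K' : Type*} [AddCommGroup M] [Module R M] [AddCommGroup M']
  [Module S M'] [AddCommGroup K] [Module R K] [AddCommGroup K'] [Module S K']

/-- the semilinear map `m ⊗ k ↦ f m ⊗ g k` -/
noncomputable def tmap (φ : R →+* S) (f : M →+ M') (g : K →+ K') (hf : ∀ (r : R) (m : M), f (r • m) = φ r • f m)
    (hg : ∀ (r : R) (m : K), g (r • m) = φ r • g m) : M ⊗[R] K →+ M' ⊗[S] K' :=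
  TensorProduct.liftAddHom
    { toFun := fun m =>
        { toFun := fun k => f m ⊗ₜ[S] g k
          map_zero' := by rw [map_zero, tmul_zero]
          map_add' := fun a b => by rw [map_add, tmul_add] }
      map_zero' := by
        ext k
        change f 0 ⊗ₜ[S] g k = 0
        rw [map_zero, zero_tmul]
      map_add' := fun a b => by
        ext k
        change f (a + b) ⊗ₜ[S] g k = f a ⊗ₜ[S] g k + f b ⊗ₜ[S] g k
        rw [map_add, add_tmul] }
    (fun r m k => by
      change f (r • m) ⊗ₜ[S] g k = f m ⊗ₜ[S] g (r • k)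
      rw [hf, hg, smul_tmul])

@[simp]
theorem tmap_tmul (φ : R →+* S) (f : M →+ M') (g : K →+ K') (hf : ∀ (r : R) (m : M), f (r • m) = φ r • f m)
    (hg : ∀ (r : R) (m : K), g (r • m) = φ r • g m) (m : M) (k : K) :
    tmap φ f g hf hg (m ⊗ₜ k) = f m ⊗ₜ[S] g k := rfl

theorem tmap_smul (φ : R →+* S) (f : M →+ M') (g : K →+ K') (hf : ∀ (r : R) (m : M), f (r • m) = φ r • f m)
    (hg : ∀ (r : R) (m : K), g (r • m) = φ r • g m) (r : R) (t : M ⊗[R] K) :
    tmap φ f g hf hg (r • t) = φ r • tmap φ f g hf hg t := by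
  induction t with
  | zero => rw [smul_zero, map_zero, smul_zero]
  | tmul a b => rw [smul_tmul', tmap_tmul, tmap_tmul, hf, smul_tmul']
  | add x y hx hy => rw [smul_add, map_add, map_add, hx, hy, smul_add]

end Alg

/-- **base change commutes with tensor products** -/
theorem isBC_tmap {R S M M' K K' : Type u} [CommRing R] [CommRing S] [AddCommGroup M] [Module R M] [AddCommGroup M']
    [Module S M'] [AddCommGroup K] [Module R K] [AddCommGroup K'] [Module S K'] {φ : R →+* S} {f : M →+ M'}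
    {g : K →+ K'} (hf : IsBC φ f) (hg : IsBC φ g) : IsBC φ (tmap φ f g hf.map_smul hg.map_smul) := by
  refine IsBC.of_lift (tmap_smul φ f g hf.map_smul hg.map_smul) fun Q _ _ h hh => ?_
  have h1 : ∀ k : K, ∃! hk : M' →ₗ[S] Q, ∀ m, hk (f m) = h (m ⊗ₜ k) := fun k =>
    hf.existsUnique_lift (h.comp ((TensorProduct.mk R M K).flip k).toAddMonoidHom) (fun a m => by
      change h ((a • m) ⊗ₜ k) = φ a • h (m ⊗ₜ k)
      rw [← smul_tmul', hh])
  choose hk hk1 hk2 using h1
  have hk1' : ∀ (k : K) (m : M), hk k (f m) = h (m ⊗ₜ k) := hk1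
  let H0 : K →+ (M' →ₗ[S] Q) :=
    { toFun := hk
      map_zero' := hf.hom_ext fun m => by
        rw [hk1', tmul_zero, map_zero, LinearMap.zero_apply]
      map_add' := fun a b => hf.hom_ext fun m => by
        rw [hk1', tmul_add, map_add, LinearMap.add_apply, hk1', hk1'] }
  obtain ⟨H, hH, hHu⟩ := hg.existsUnique_lift H0 (fun r k => hf.hom_ext fun m => by
    change hk (r • k) (f m) = (φ r • hk k) (f m)
    rw [hk1', LinearMap.smul_apply, hk1', tmul_smul, hh])
  have hH' : ∀ (k : K) (m : M), H (g k) (f m) = h (m ⊗ₜ k) := fun k m => by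
    rw [hH]
    exact hk1' k m
  refine ⟨TensorProduct.lift H.flip, fun t => ?_, fun g' hg' => ?_⟩
  · induction t with
    | zero => rw [map_zero, map_zero, map_zero]
    | tmul a b =>
      rw [tmap_tmul, TensorProduct.lift.tmul]
      exact hH' b a
    | add x y hx hy => rw [map_add, map_add, map_add, hx, hy]
  · refine TensorProduct.ext ?_
    have h5 : ((TensorProduct.mk S M' K').compr₂ g').flip =
        ((TensorProduct.mk S M' K').compr₂ (TensorProduct.lift H.flip)).flip := by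
      refine hg.hom_ext fun k => ?_
      refine hf.hom_ext fun m => ?_
      change g' (f m ⊗ₜ g k) = TensorProduct.lift H.flip (f m ⊗ₜ g k)
      rw [TensorProduct.lift.tmul]
      exact (hg' (m ⊗ₜ k)).trans (hH' k m).symm
    exact congrArg LinearMap.flip h5

section Cancel

variable {R S M M' V : Type*} [CommRing R] [CommRing S] [AddCommGroup M] [Module R M] [AddCommGroup M']
    [Module S M'] [AddCommGroup V] [Module S V] [Module R V]

/-- `M ⊗[R] V ≃ (S ⊗[R] M) ⊗[S] V` -/
theorem bijective_cancel {φ : R →+* S} {f : M →+ M'} (hf : IsBC φ f) (hV : ∀ (r : R) (v : V), r • v = φ r • v)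
    (μ : M ⊗[R] V →+ M' ⊗[S] V) (hμ : ∀ m v, μ (m ⊗ₜ v) = f m ⊗ₜ v) : Function.Bijective μ := by
  letI := φ.toAlgebra
  haveI : IsScalarTower R S V := ⟨fun a b n => by
    rw [hV, Algebra.smul_def, mul_smul]
    rfl⟩
  obtain ⟨e, he⟩ := IsBC.exists_equiv (isBC_mk φ M) hf
  let E : M ⊗[R] V ≃+ M' ⊗[S] V :=
    (TensorProduct.comm R M V).toAddEquiv.trans
      ((TensorProduct.AlgebraTensorModule.cancelBaseChange R S S V M).symm.toAddEquiv.trans
        ((TensorProduct.congr (LinearEquiv.refl S V) e).toAddEquiv.trans (TensorProduct.comm S V M').toAddEquiv))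
  have : μ = E.toAddMonoidHom := by
    ext t
    induction t with
    | zero => rw [map_zero, map_zero]
    | tmul a b =>
      rw [hμ]
      change _ = (TensorProduct.comm S V M') ((TensorProduct.congr (LinearEquiv.refl S V) e)
        ((TensorProduct.AlgebraTensorModule.cancelBaseChange R S S V M).symm (b ⊗ₜ a)))
      rw [TensorProduct.AlgebraTensorModule.cancelBaseChange_symm_tmul, TensorProduct.congr_tmul,
        TensorProduct.comm_tmul]
      have h1 := he a
      exact congrArg (fun x => x ⊗ₜ[S] b) h1.symm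
    | add x y hx hy => rw [map_add, map_add, hx, hy]
  rw [this]
  exact E.bijective

end Cancel

section PM'

variable {𝒞 : Type u₁} [Category.{v₁} 𝒞] {A : 𝒞ᵒᵖ ⥤ CommRingCat.{u}}

/-- tensor product of presheaves of modules -/
noncomputable def tenPM (M K : PM.{u} A) : PM.{u} A where
  obj z := M.obj z ⊗[A.obj (op z)] K.obj z
  grp z := inferInstance
  mod z := inferInstance
  map φ := tmap (rg A φ) (M.map φ) (K.map φ) (M.map_smul φ) (K.map_smul φ)
  map_smul φ r t := tmap_smul _ _ _ _ _ r t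
  map_id z t := by
    induction t with
    | zero => rw [map_zero]
    | tmul a b => rw [tmap_tmul, M.map_id, K.map_id]
    | add x y hx hy => rw [map_add, hx, hy]
  map_comp ψ φ t := by
    induction t with
    | zero => rw [map_zero, map_zero, map_zero]
    | tmul a b => rw [tmap_tmul, tmap_tmul, tmap_tmul, M.map_comp, K.map_comp]
    | add x y hx hy => rw [map_add, map_add, map_add, hx, hy]

theorem tenPM_map (M K : PM.{u} A) {x z : 𝒞} (φ : x ⟶ z) (m : M.obj z) (k : K.obj z) :
    (tenPM M K).map φ (m ⊗ₜ k) = M.map φ m ⊗ₜ K.map φ k := rfl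

theorem tenPM_cart {M K : PM.{u} A} (hM : M.Cart) (hK : K.Cart) : (tenPM M K).Cart :=
  fun _ _ φ => isBC_tmap (hM φ) (hK φ)

variable {x₀ : 𝒞} (D : PD A x₀) {M : PM.{u} A} (N : ModuleCat.{u} (A.obj (op x₀)))

/-- `v^* M ⊗ N` -/
noncomputable abbrev vt (M : PM.{u} A) (N : ModuleCat.{u} (A.obj (op x₀))) : ModuleCat.{u} (A.obj (op x₀)) :=
  ModuleCat.of _ (M.obj x₀ ⊗[A.obj (op x₀)] N)

/-- the map `v^* M ⊗ v^* v_* N ⟶ v^* M ⊗ N` -/
noncomputable def cou (M : PM.{u} A) : (tenPM M (pf D N)).obj x₀ →ₗ[A.obj (op x₀)] vt M N :=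
  TensorProduct.map (LinearMap.id : M.obj x₀ →ₗ[A.obj (op x₀)] M.obj x₀) (epl D N)

theorem cou_tmul (m : M.obj x₀) (v : (pf D N).obj x₀) : cou D N M (m ⊗ₜ v) = m ⊗ₜ[A.obj (op x₀)] (epl D N v) := rfl

/-- `M(y) ⊗ V(N, l) ≃ V(M(x₀) ⊗ N, l)` -/
theorem exists_kap (hM : M.Cart) {y : 𝒞} (l : y ⟶ x₀) :
    ∃ κ : M.obj y ⊗[A.obj (op y)] V A N l →ₗ[A.obj (op y)] V A (vt M N) l, Function.Bijective κ ∧
      ∀ (m : M.obj x₀) (n : N), κ (M.map l m ⊗ₜ jn A N l n) = jn A (vt M N) l (m ⊗ₜ n) := by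
  have h1 := isBC_tmap (hM l) (isBC_jn A N l)
  have h2 := isBC_jn A (vt M N) l
  obtain ⟨e, he⟩ := h1.exists_equiv h2
  exact ⟨e.toLinearMap, e.bijective, fun m n => he (m ⊗ₜ n)⟩

/-- the arrow `z × x₀ ⟶ (z × x₀) × x₀` -/
def dd (D : PD A x₀) (z : 𝒞) : D.w z ⟶ D.w (D.w z) := D.lift (𝟙 _) (D.b z)

theorem dd_π (z : 𝒞) : dd D z ≫ D.π (D.w z) = 𝟙 _ := D.lift_π _ _

theorem dd_b (z : 𝒞) : dd D z ≫ D.b (D.w z) = D.b z := D.lift_b _ _

theorem b_dg (z : 𝒞) : D.b z ≫ dg D = dd D z ≫ D.wm (D.b z) := by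
  refine D.ext ?_ ?_
  · rw [Category.assoc, dg_π, Category.assoc, D.wm_π, ← Category.assoc, dd_π, Category.comp_id, Category.id_comp]
  · rw [Category.assoc, dg_b, Category.assoc, D.wm_b, dd_b, Category.comp_id]

theorem dd_wm (z : 𝒞) : dd D z ≫ D.wm (D.π z) = 𝟙 (D.w z) := by
  refine D.ext ?_ ?_
  · rw [Category.assoc, D.wm_π, ← Category.assoc, dd_π]
  · rw [Category.assoc, D.wm_b, dd_b, Category.id_comp]

theorem jn_ep (z : 𝒞) (v : V A N (D.b x₀)) : jn A N (D.b z) (ep D N v) =
    tr A N (dd D z) (dd_b D z) (tr A N (D.wm (D.b z)) (D.wm_b (D.b z)) v) := by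
  have h4 : (jn A N (D.b z)).comp (ep D N) = (tr A N (dd D z) (dd_b D z)).comp (tr A N (D.wm (D.b z)) (D.wm_b (D.b z))) :=
    semi_ext (isBC_jn A N (D.b x₀)) (rg A (D.b z ≫ dg D)) _ _
      (fun b n => by
        change jn A N (D.b z) (ep D N (b • n)) = rg A (D.b z ≫ dg D) b • jn A N (D.b z) (ep D N n)
        rw [ep_smul, jn_smul, rg_comp_apply])
      (fun b n => by
        change tr A N (dd D z) (dd_b D z) (tr A N (D.wm (D.b z)) (D.wm_b (D.b z)) (b • n)) =
          rg A (D.b z ≫ dg D) b • tr A N (dd D z) (dd_b D z) (tr A N (D.wm (D.b z)) (D.wm_b (D.b z)) n)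
        rw [tr_smul, tr_smul, b_dg, rg_comp_apply])
      (fun m => by
        change jn A N (D.b z) (ep D N (jn A N (D.b x₀) m)) =
          tr A N (dd D z) (dd_b D z) (tr A N (D.wm (D.b z)) (D.wm_b (D.b z)) (jn A N (D.b x₀) m))
        rw [ep_jn, tr_jn, tr_jn])
  exact congr($h4 v)

theorem tr_dd_wm (z : 𝒞) (v : (pf D N).obj z) :
    tr A N (dd D z) (dd_b D z) ((pf D N).map (D.π z) v) = (show V A N (D.b z) from v) := by
  change tr A N (dd D z) (dd_b D z) (tr A N (D.wm (D.π z)) (D.wm_b (D.π z)) v) = v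
  rw [← tr_comp A N (dd D z) (D.wm (D.π z)) (dd_b D z) (D.wm_b (D.π z)) _ rfl (by rw [dd_wm, Category.id_comp])]
  exact tr_id A N _ _ (dd_wm D z) _

/-- **the projection formula**: for `M` cartesian, the map `M ⊗ v_* N ⟶ v_*(v^* M ⊗ N)` adjoint to `1 ⊗ counit` is bijective -/
theorem bijective_proj (hM : M.Cart) (hT : (tenPM M (pf D N)).Cart) (z : 𝒞) :
    Function.Bijective (toPf D hT (cou D N M) z) := by
  obtain ⟨κ, hκ, hκ'⟩ := exists_kap N hM (D.b z)
  -- the extension of the counit over `b z`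
  have h1 : ∀ (m : M.obj (D.w z)) (v : (pf D N).obj (D.w z)), th hT (cou D N M) (D.b z) (m ⊗ₜ v) =
      κ (m ⊗ₜ[A.obj (op (D.w z))] tr A N (dd D z) (dd_b D z) v) := by
    let g : (pf D N).obj (D.w z) →ₗ[A.obj (op (D.w z))] V A N (D.b z) :=
      { toFun := fun v => tr A N (dd D z) (dd_b D z) v
        map_add' := fun a b => map_add (tr A N (dd D z) (dd_b D z)) a b
        map_smul' := fun r a => by
          refine (tr_smul A N (dd D z) (dd_b D z) (rg A (D.π (D.w z)) r) a).trans ?_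
          rw [← rg_comp_apply, dd_π, rg_id] }
    let t : (tenPM M (pf D N)).obj (D.w z) →ₗ[A.obj (op (D.w z))] V A (vt M N) (D.b z) :=
      κ.comp (TensorProduct.map (LinearMap.id : M.obj (D.w z) →ₗ[A.obj (op (D.w z))] M.obj (D.w z)) g)
    have ht : t = th hT (cou D N M) (D.b z) := by
      refine eq_th hT _ _ _ fun m => ?_
      induction m using TensorProduct.induction_on with
      | zero => rw [map_zero, map_zero, map_zero, map_zero]
      | tmul a v =>
        rw [tenPM_map, cou_tmul]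
        change κ (M.map (D.b z) a ⊗ₜ[A.obj (op (D.w z))] tr A N (dd D z) (dd_b D z) (tr A N (D.wm (D.b z)) (D.wm_b (D.b z)) v)) =
          jn A (vt M N) (D.b z) (a ⊗ₜ[A.obj (op x₀)] ep D N v)
        rw [← jn_ep, hκ']
      | add x y hx hy => rw [map_add, map_add, map_add, map_add, hx, hy]
    intro m v
    rw [← ht]
    rfl
  letI iV : Module (A.obj (op z)) (V A N (D.b z)) := Module.compHom (V A N (D.b z)) (rg A (D.π z))
  let μ : M.obj z ⊗[A.obj (op z)] V A N (D.b z) →+ M.obj (D.w z) ⊗[A.obj (op (D.w z))] V A N (D.b z) :=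
    tmap (rg A (D.π z)) (M.map (D.π z)) (AddMonoidHom.id _) (M.map_smul _) (fun _ _ => rfl)
  have h2 : Function.Bijective μ := bijective_cancel (hM (D.π z)) (fun _ _ => rfl) μ (fun _ _ => rfl)
  have h3 : ∀ t : M.obj z ⊗[A.obj (op z)] V A N (D.b z), toPf D hT (cou D N M) z t = κ (μ t) := by
    intro t
    induction t using TensorProduct.induction_on with
    | zero => exact (map_zero (toPf D hT (cou D N M) z)).trans ((congrArg κ (map_zero μ)).trans (map_zero κ)).symm
    | tmul a v =>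
      change th hT (cou D N M) (D.b z) ((tenPM M (pf D N)).map (D.π z) (a ⊗ₜ v)) = κ (M.map (D.π z) a ⊗ₜ v)
      rw [tenPM_map, h1, tr_dd_wm]
    | add x y hx hy =>
      exact ((map_add (toPf D hT (cou D N M) z) x y).trans (congrArg₂ (· + ·) hx hy)).trans
        ((congrArg κ (map_add μ x y)).trans (map_add κ (μ x) (μ y))).symm
  have h4 : (κ ∘ μ) = fun t : M.obj z ⊗[A.obj (op z)] V A N (D.b z) => toPf D hT (cou D N M) z t :=
    funext fun t => (h3 t).symm
  have h5 := hκ.comp h2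
  rw [h4] at h5
  exact h5

end PM'

end Groth.Agent.ResProp.EF.K741
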