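import Groth.Agent.StMod.K784.BC3

set_option autoImplicit false
set_option linter.dupNamespace false
set_option linter.style.haveILetI false

open CategoryTheory TensorProduct K784.BC

namespace Groth.Agent.ResProp.EF.K741

universe u

/-- a commutative square of rings is a pushout if `R' ⊗[R] A ⟶ B` is bijective -/
theorem isPO_of_bijective {R R' A B : Type u} [CommRing R] [CommRing R'] [CommRing A] [CommRing B] (ρ : R →+* R')
    (α : R →+* A) (β : R' →+* B) (φ : A →+* B) (comm : β.comp ρ = φ.comp α)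
    (bij : letI := ρ.toAlgebra; letI := α.toAlgebra; letI := (β.comp ρ).toAlgebra
      letI βa : R' →ₐ[R] B := { β with commutes' := fun _ => rfl }
      letI φa : A →ₐ[R] B := { φ with commutes' := fun r => (congr($comm r)).symm }
      Function.Bijective (Algebra.TensorProduct.lift βa φa (fun _ _ => Commute.all _ _) : R' ⊗[R] A →ₐ[R] B)) :
    IsPO ρ α β φ := by
  letI := ρ.toAlgebra; letI := α.toAlgebra; letI := (β.comp ρ).toAlgebra
  letI βa : R' →ₐ[R] B := { β with commutes' := fun _ => rfl }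
  letI φa : A →ₐ[R] B := { φ with commutes' := fun r => (congr($comm r)).symm }
  let Φ := (Algebra.TensorProduct.lift βa φa (fun _ _ => Commute.all _ _) : R' ⊗[R] A →ₐ[R] B)
  have hb : Function.Bijective Φ := bij
  have h1 := CommRingCat.isPushout_tensorProduct R R' A
  let e : R' ⊗[R] A ≃+* B := RingEquiv.ofBijective Φ hb
  refine IsPushout.of_iso h1 (Iso.refl _) (Iso.refl _) (Iso.refl _) e.toCommRingCatIso ?_ ?_ ?_ ?_
  · rfl
  · rfl
  · ext x
    change Φ (x ⊗ₜ 1) = β x
    simp [Φ, Algebra.TensorProduct.lift_tmul]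
    rfl
  · ext x
    change Φ (1 ⊗ₜ x) = φ x
    simp [Φ, Algebra.TensorProduct.lift_tmul]
    rfl

/-- conversely -/
theorem bijective_of_isPO {R R' A B : Type u} [CommRing R] [CommRing R'] [CommRing A] [CommRing B] (ρ : R →+* R')
    (α : R →+* A) (β : R' →+* B) (φ : A →+* B) (h : IsPO ρ α β φ) :
    letI := ρ.toAlgebra; letI := α.toAlgebra; letI := (β.comp ρ).toAlgebra
    letI βa : R' →ₐ[R] B := { β with commutes' := fun _ => rfl }
    letI φa : A →ₐ[R] B := { φ with commutes' := fun r => (congr($h.comm r)).symm }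
    Function.Bijective (Algebra.TensorProduct.lift βa φa (fun _ _ => Commute.all _ _) : R' ⊗[R] A →ₐ[R] B) := by
  letI := ρ.toAlgebra; letI := α.toAlgebra; letI := (β.comp ρ).toAlgebra
  letI βa : R' →ₐ[R] B := { β with commutes' := fun _ => rfl }
  letI φa : A →ₐ[R] B := { φ with commutes' := fun r => (congr($h.comm r)).symm }
  change Function.Bijective (Algebra.TensorProduct.lift βa φa (fun _ _ => Commute.all _ _) : R' ⊗[R] A →ₐ[R] B)
  have h1 := CommRingCat.isPushout_tensorProduct R R' A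
  have h2 : IsPushout (CommRingCat.ofHom (algebraMap R R')) (CommRingCat.ofHom (algebraMap R A)) (CommRingCat.ofHom β)
    (CommRingCat.ofHom φ) := h
  let i := h1.isoIsPushout _ _ h2
  have e1 : CommRingCat.ofHom (Algebra.TensorProduct.lift βa φa (fun _ _ => Commute.all _ _) :
      R' ⊗[R] A →ₐ[R] B).toRingHom = i.hom := by
    refine h1.hom_ext ?_ ?_
    · rw [IsPushout.inl_isoIsPushout_hom]
      ext x
      simp [Algebra.TensorProduct.lift_tmul]
      rfl
    · rw [IsPushout.inr_isoIsPushout_hom]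
      ext x
      simp [Algebra.TensorProduct.lift_tmul]
      rfl
  have e2 : Function.Bijective i.hom.hom := i.commRingCatIsoToRingEquiv.bijective
  rw [← e1] at e2
  exact e2

theorem lift_apply_mem {R R' A B : Type u} [CommRing R] [CommRing R'] [CommRing A] [CommRing B] [Algebra R R'] [Algebra R A]
    [Algebra R B] (βa : R' →ₐ[R] B) (φa : A →ₐ[R] B) (S : Subring B) (h1 : ∀ r, βa r ∈ S) (h2 : ∀ a, φa a ∈ S)
    (x : R' ⊗[R] A) : Algebra.TensorProduct.lift βa φa (fun _ _ => Commute.all _ _) x ∈ S := by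
  induction x with
  | zero => rw [map_zero]; exact S.zero_mem
  | tmul a b =>
    rw [Algebra.TensorProduct.lift_tmul]
    exact S.mul_mem (h1 _) (h2 _)
  | add x y hx hy => rw [map_add]; exact S.add_mem hx hy

/-- N4c: the pushout of subrings. -/
theorem subPO {A₀ Γ An An1 : Type u} [CommRing A₀] [CommRing Γ] [CommRing An] [CommRing An1]
    (α : A₀ →+* An) (s : A₀ →+* Γ) (β : An →+* An1) (γ : Γ →+* An1) (h : IsPO α s β γ)
    (B₀ : Subring A₀) (ΓB : Subring Γ) (Bn : Subring An) (hs : ∀ a : B₀, s a ∈ ΓB) (hα : ∀ a : B₀, α a ∈ Bn)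
    (Bn1 : Subring An1) (hβ : ∀ a : Bn, β a ∈ Bn1) (hγ : ∀ g : ΓB, γ g ∈ Bn1)
    (hle : Bn1 ≤ Subring.closure (β '' Bn ∪ γ '' ΓB))
    (hfl : ((s.comp B₀.subtype).codRestrict ΓB hs).Flat)
    (h1 : IsPO B₀.subtype ((s.comp B₀.subtype).codRestrict ΓB hs) s ΓB.subtype) :
    IsPO ((α.comp B₀.subtype).codRestrict Bn hα) ((s.comp B₀.subtype).codRestrict ΓB hs)
        ((β.comp Bn.subtype).codRestrict Bn1 hβ) ((γ.comp ΓB.subtype).codRestrict Bn1 hγ) := by
  have hp : IsPO (α.comp B₀.subtype) ((s.comp B₀.subtype).codRestrict ΓB hs) β (γ.comp ΓB.subtype) :=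
    IsPushout.paste_horiz h1 h
  have hcomm : ((β.comp Bn.subtype).codRestrict Bn1 hβ).comp ((α.comp B₀.subtype).codRestrict Bn hα) =
      ((γ.comp ΓB.subtype).codRestrict Bn1 hγ).comp ((s.comp B₀.subtype).codRestrict ΓB hs) := by
    ext x
    exact congr($(h.comm) x.1)
  refine isPO_of_bijective _ _ _ _ hcomm ?_
  have hb := bijective_of_isPO _ _ _ _ hp
  letI i1 : Algebra B₀ Bn := ((α.comp B₀.subtype).codRestrict Bn hα).toAlgebra
  letI i2 : Algebra B₀ ΓB := ((s.comp B₀.subtype).codRestrict ΓB hs).toAlgebra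
  letI i3 : Algebra B₀ Bn1 := (((β.comp Bn.subtype).codRestrict Bn1 hβ).comp ((α.comp B₀.subtype).codRestrict Bn hα)).toAlgebra
  letI i4 : Algebra B₀ An := (α.comp B₀.subtype).toAlgebra
  letI i5 : Algebra B₀ An1 := (β.comp (α.comp B₀.subtype)).toAlgebra
  letI βB : Bn →ₐ[B₀] Bn1 := { ((β.comp Bn.subtype).codRestrict Bn1 hβ) with commutes' := fun _ => rfl }
  letI γB : ΓB →ₐ[B₀] Bn1 := { ((γ.comp ΓB.subtype).codRestrict Bn1 hγ) with
    commutes' := fun r => (congr($hcomm r)).symm }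
  letI βA : An →ₐ[B₀] An1 := { β with commutes' := fun _ => rfl }
  letI γA : ΓB →ₐ[B₀] An1 := { (γ.comp ΓB.subtype) with commutes' := fun r => (congr($hp.comm r)).symm }
  change Function.Bijective (Algebra.TensorProduct.lift βA γA (fun _ _ => Commute.all _ _) : An ⊗[B₀] ΓB →ₐ[B₀] An1) at hb
  change Function.Bijective (Algebra.TensorProduct.lift βB γB (fun _ _ => Commute.all _ _) : Bn ⊗[B₀] ΓB →ₐ[B₀] Bn1)
  haveI : Module.Flat B₀ ΓB := hfl
  let j : Bn →ₗ[B₀] An := { toFun := fun x => x.1, map_add' := fun _ _ => rfl, map_smul' := fun _ _ => rfl }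
  have hj : Function.Injective j := Subtype.val_injective
  have hinj := Module.Flat.rTensor_preserves_injective_linearMap (M := ΓB) j hj
  have key : ∀ x : Bn ⊗[B₀] ΓB, ((Algebra.TensorProduct.lift βB γB (fun _ _ => Commute.all _ _) :
      Bn ⊗[B₀] ΓB →ₐ[B₀] Bn1) x).1 = (Algebra.TensorProduct.lift βA γA (fun _ _ => Commute.all _ _) :
      An ⊗[B₀] ΓB →ₐ[B₀] An1) (j.rTensor ΓB x) := by
    intro x
    induction x with
    | zero => simp only [map_zero]; rfl
    | tmul a b =>
      rw [LinearMap.rTensor_tmul, Algebra.TensorProduct.lift_tmul, Algebra.TensorProduct.lift_tmul]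
      rfl
    | add x y hx hy => rw [map_add, map_add, map_add, ← hx, ← hy]; rfl
  constructor
  · intro x y hxy
    refine hinj (hb.1 ?_)
    rw [← key, ← key, hxy]
  · intro z
    have hz : z.1 ∈ ((Algebra.TensorProduct.lift βB γB (fun _ _ => Commute.all _ _) :
      Bn ⊗[B₀] ΓB →ₐ[B₀] Bn1).toRingHom.range.map Bn1.subtype : Subring An1) := by
      refine Subring.closure_le.2 ?_ (hle z.2)
      rintro _ (⟨b, hb', rfl⟩ | ⟨g, hg, rfl⟩)
      · refine ⟨βB ⟨b, hb'⟩, ⟨⟨b, hb'⟩ ⊗ₜ 1, ?_⟩, rfl⟩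
        change Algebra.TensorProduct.lift βB γB (fun _ _ => Commute.all _ _) _ = _
        rw [Algebra.TensorProduct.lift_tmul, map_one, mul_one]
      · refine ⟨γB ⟨g, hg⟩, ⟨1 ⊗ₜ ⟨g, hg⟩, ?_⟩, rfl⟩
        change Algebra.TensorProduct.lift βB γB (fun _ _ => Commute.all _ _) _ = _
        rw [Algebra.TensorProduct.lift_tmul, map_one, one_mul]
    obtain ⟨_, ⟨x, rfl⟩, hx⟩ := hz
    exact ⟨x, Subtype.ext hx⟩

end Groth.Agent.ResProp.EF.K741
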